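import Groth.Agent.CurveCohLib.SubBundle
import Groth.Agent.SmDef.Local
import Mathlib.RingTheory.RegularLocalRing.Defs
import Mathlib.RingTheory.Flat.TorsionFree

/-!
# Flat extensions of closed subschemes over a regular integral curve
-/

set_option autoImplicit false
attribute [-instance] CategoryTheory.catToReflQuiver
set_option linter.style.haveILetI false
set_option backward.isDefEq.respectTransparency false
set_option backward.isDefEq.respectTransparency.types false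
set_option maxHeartbeats 1000000

universe u

open CategoryTheory CategoryTheory.Limits AlgebraicGeometry TopologicalSpace Opposite

namespace Groth.Agent.FlatExtCurve

theorem valuationRing_of_regular_dim_le_one {R : Type u} [CommRing R] [IsDomain R] [IsRegularLocalRing R]
    (h : ringKrullDim R ≤ 1) : ValuationRing R := by
  rw [← IsRegularLocalRing.spanFinrank_maximalIdeal (R := R)] at h
  have h1 : (IsLocalRing.maximalIdeal R).spanFinrank ≤ 1 := by exact_mod_cast h
  refine ((tfae_of_isNoetherianRing_of_isLocalRing_of_isDomain R).out 4 1).1 ?_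
  by_cases hb : IsLocalRing.maximalIdeal R = ⊥
  · rw [hb]; exact bot_isPrincipal
  · have hfg : (IsLocalRing.maximalIdeal R).FG := IsNoetherian.noetherian _
    refine ((Submodule.spanFinrank_eq_one_iff _).1 (le_antisymm h1 (Nat.one_le_iff_ne_zero.2 fun h0 => hb ?_))).1
    exact (Submodule.spanFinrank_eq_zero_iff_eq_bot hfg).1 h0

variable {Y : Scheme.{u}} [IsIntegral Y]

theorem valuationRing_localization [IsLocallyNoetherian Y] (hreg : ∀ y : Y, IsRegularLocalRing (Y.presheaf.stalk y))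
    (hY : topologicalKrullDim ↥Y ≤ 1) {O : Y.Opens} (hO : IsAffineOpen O) (P : Ideal Γ(Y, O)) [P.IsMaximal]
    [IsDomain Γ(Y, O)] : ValuationRing (Localization P.primeCompl) := by
  let q : PrimeSpectrum Γ(Y, O) := ⟨P, inferInstance⟩
  let y : O := ⟨hO.fromSpec q, hO.range_fromSpec.le ⟨q, rfl⟩⟩
  have hPy : hO.primeIdealOf y = q := hO.fromSpec.isOpenEmbedding.injective (by
    rw [hO.fromSpec_primeIdealOf])
  letI := Y.presheaf.algebra_section_stalk y
  haveI : IsLocalization.AtPrime (Y.presheaf.stalk (y : Y)) P := by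
    have h := hO.isLocalization_stalk y
    simp only [hPy] at h
    exact h
  haveI := hreg y
  haveI := valuationRing_of_regular_dim_le_one (R := Y.presheaf.stalk (y : Y))
    ((CurveCohLib.ringKrullDim_stalk_le_topologicalKrullDim (y : Y)).trans hY)
  let e := IsLocalization.algEquiv P.primeCompl (Y.presheaf.stalk (y : Y)) (Localization P.primeCompl)
  exact Function.Surjective.valuationRing e.toRingEquiv.toRingHom e.surjective

/-- Functions of a flat family are regular at nonzero elements of the base. -/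
theorem mul_eq_zero_of_flat {X : Scheme.{u}} (g : X ⟶ Y) [Flat g] {O : Y.Opens} (hO : IsAffineOpen O) (W : X.Opens)
    (hW : W ≤ g ⁻¹ᵁ O) {a : Γ(Y, O)} (ha : a ≠ 0) (s : Γ(X, W)) (h : g.appLE O W hW a * s = 0) : s = 0 := by
  refine TopCat.Presheaf.section_ext X.sheaf W s 0 fun x hx => ?_
  obtain ⟨V, hV, hxV, hVW⟩ := exists_isAffineOpen_mem_and_subset (X := X) hx
  have hVO : V ≤ g ⁻¹ᵁ O := le_trans hVW hW
  haveI : Nonempty O := ⟨⟨g x, hW hx⟩⟩
  letI := (g.appLE O V hVO).hom.toAlgebra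
  haveI : Module.Flat Γ(Y, O) Γ(X, V) := g.flat_appLE hO hV hVO
  have hreg : IsSMulRegular Γ(Y, O) a := fun b c hbc => mul_left_cancel₀ ha hbc
  have h1 := hreg.of_flat (S := Γ(X, V))
  have h2 : X.presheaf.map (homOfLE hVW).op s = 0 := by
    refine (h1 : Function.Injective _) ?_
    show g.appLE O V hVO a * X.presheaf.map (homOfLE hVW).op s = g.appLE O V hVO a * 0
    rw [mul_zero, ← g.appLE_map hW (homOfLE hVW).op, CommRingCat.comp_apply, ← map_mul, h, map_zero]
  have h3 := congrArg (X.presheaf.germ V x hxV) h2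
  rw [map_zero] at h3
  erw [TopCat.Presheaf.germ_res_apply] at h3
  exact h3.trans (map_zero _).symm

/-- The preimage of a nonempty open of an integral base is schematically dense in a flat family. -/
theorem eq_zero_of_res_preimage {X : Scheme.{u}} (g : X ⟶ Y) [Flat g] (U : Y.Opens) (hU : (U : Set Y).Nonempty)
    (W : X.Opens) (s : Γ(X, W)) (h : X.presheaf.map (homOfLE (inf_le_left : W ⊓ g ⁻¹ᵁ U ≤ W)).op s = 0) : s = 0 := by
  refine TopCat.Presheaf.section_ext X.sheaf W s 0 fun x hx => ?_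
  obtain ⟨O, hO, hxO, -⟩ := exists_isAffineOpen_mem_and_subset (X := Y) (x := g x) (U := ⊤) trivial
  obtain ⟨V, hV, hxV, hVW⟩ := exists_isAffineOpen_mem_and_subset (X := X) (x := x) (U := W ⊓ g ⁻¹ᵁ O) ⟨hx, hxO⟩
  obtain ⟨η, hηU, hηO⟩ := nonempty_preirreducible_inter U.2 O.2 hU ⟨g x, hxO⟩
  obtain ⟨a, ha, hηa⟩ := hO.exists_basicOpen_le (V := U ⊓ O) ⟨η, ⟨hηU, hηO⟩⟩ hηO
  have ha0 : a ≠ 0 := by
    rintro rfl
    rw [Scheme.basicOpen_zero] at hηa
    exact hηa
  have hVO : V ≤ g ⁻¹ᵁ O := fun z hz => (hVW hz).2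
  let b := g.appLE O V hVO a
  have hb : X.basicOpen b ≤ W ⊓ g ⁻¹ᵁ U := by
    rw [show X.basicOpen b = V ⊓ g ⁻¹ᵁ Y.basicOpen a from Scheme.basicOpen_appLE _ _ _ _ _]
    exact fun z hz => ⟨(hVW hz.1).1, (ha hz.2).1⟩
  have hVW' : V ≤ W := fun z hz => (hVW hz).1
  let s' := X.presheaf.map (homOfLE hVW').op s
  have h0 : X.presheaf.map (homOfLE (X.basicOpen_le b)).op s' = 0 := by
    have := congrArg (X.presheaf.map (homOfLE hb).op) h
    rw [map_zero] at this
    rw [← this]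
    show X.presheaf.map _ (X.presheaf.map _ s) = X.presheaf.map _ (X.presheaf.map _ s)
    rw [← CommRingCat.comp_apply, ← CommRingCat.comp_apply, ← Functor.map_comp, ← Functor.map_comp]
    rfl
  obtain ⟨n, hn⟩ := exists_pow_mul_eq_zero_of_res_basicOpen_eq_zero_of_isCompact X hV.isCompact s' b h0
  have hs' : s' = 0 := by
    haveI : Nonempty O := ⟨⟨g x, hxO⟩⟩
    refine mul_eq_zero_of_flat g hO V hVO (pow_ne_zero n ha0) s' ?_
    rw [map_pow]
    exact hn
  have h3 := congrArg (X.presheaf.germ V x hxV) hs'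
  rw [map_zero] at h3
  erw [TopCat.Presheaf.germ_res_apply] at h3
  exact h3.trans (map_zero _).symm

/-- The scheme-theoretic image of a family flat over a regular curve is flat. -/
theorem flat_imageι [IsLocallyNoetherian Y] (hreg : ∀ y : Y, IsRegularLocalRing (Y.presheaf.stalk y))
    (hY : topologicalKrullDim ↥Y ≤ 1) {X P : Scheme.{u}} (k : X ⟶ P) [QuasiCompact k] (π : P ⟶ Y)
    [Flat (k ≫ π)] : Flat (k.imageι ≫ π) := by
  rw [HasRingHomProperty.iff_exists_appLE (P := @Flat) (RingHom.Flat.stableUnderComposition.stableUnderCompositionWithLocalizationAway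
    RingHom.Flat.holdsForLocalizationAway).left]
  intro w
  obtain ⟨O, hO, hwO, -⟩ := exists_isAffineOpen_mem_and_subset (X := Y) (x := π (k.imageι w)) (U := ⊤) trivial
  obtain ⟨V, hV, hwV, hVO⟩ := exists_isAffineOpen_mem_and_subset (X := P) (x := k.imageι w) (U := π ⁻¹ᵁ O) hwO
  have hle : k.imageι ⁻¹ᵁ V ≤ (k.imageι ≫ π) ⁻¹ᵁ O := fun z hz => hVO hz
  refine ⟨⟨O, hO⟩, ⟨k.imageι ⁻¹ᵁ V, hV.preimage _⟩, hwV, hle, ?_⟩
  haveI : Nonempty O := ⟨⟨π (k.imageι w), hwO⟩⟩
  let φ := ((k.imageι ≫ π).appLE O (k.imageι ⁻¹ᵁ V) hle).hom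
  letI := φ.toAlgebra
  show Module.Flat Γ(Y, O) Γ(k.image, k.imageι ⁻¹ᵁ V)
  rw [Module.Flat.flat_iff_torsion_eq_bot_of_valuationRing_localization_isMaximal
    (fun Q _ => valuationRing_localization hreg hY hO Q), eq_bot_iff]
  intro s hs
  obtain ⟨⟨a, ha⟩, has⟩ := (Submodule.mem_torsion_iff s).1 hs
  have ha0 : a ≠ 0 := nonZeroDivisors.ne_zero ha
  have hinj := k.toImage_app_injective ⟨V, hV⟩
  rw [Submodule.mem_bot]
  refine hinj (Eq.trans ?_ (map_zero _).symm)
  have hle' : k ⁻¹ᵁ V ≤ (k ≫ π) ⁻¹ᵁ O := fun z hz => hVO hz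
  have hle'' : k.toImage ⁻¹ᵁ (k.imageι ⁻¹ᵁ V) ≤ (k ≫ π) ⁻¹ᵁ O := by
    rw [← Scheme.Hom.comp_preimage, Scheme.Hom.toImage_imageι]; exact hle'
  refine mul_eq_zero_of_flat (k ≫ π) hO _ hle'' ha0 _ ?_
  have e1 : (k.imageι ≫ π).appLE O (k.imageι ⁻¹ᵁ V) hle ≫ k.toImage.app (k.imageι ⁻¹ᵁ V) =
      (k ≫ π).appLE O (k.toImage ⁻¹ᵁ (k.imageι ⁻¹ᵁ V)) hle'' := by
    rw [Scheme.Hom.app_eq_appLE, Scheme.Hom.appLE_comp_appLE]
    simp only [Scheme.Hom.toImage_imageι_assoc]
  rw [← e1, CommRingCat.comp_apply, ← map_mul]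
  have e2 : (k.imageι ≫ π).appLE O (k.imageι ⁻¹ᵁ V) hle a * s = 0 := has
  rw [e2, map_zero]

/-- Restricting the kernel of a composite with an open immersion. -/
theorem comap_ker_comp {X V P : Scheme.{u}} (i : X ⟶ V) (ι : V ⟶ P) [IsOpenImmersion ι] [QuasiCompact i]
    [QuasiCompact (i ≫ ι)] : (i ≫ ι).ker.comap ι = i.ker := by
  refine Scheme.IdealSheafData.ext (funext fun W => ?_)
  let W' : P.affineOpens := ⟨ι ''ᵁ W.1, W.2.image_of_isOpenImmersion ι⟩
  have hle : W.1 ≤ ι ⁻¹ᵁ W'.1 := by rw [Scheme.Hom.preimage_image_eq]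
  rw [ModPairLib.ideal_comap (i ≫ ι).ker ι W' W hle, Scheme.Hom.ker_apply, Scheme.Hom.ker_apply]
  haveI : IsIso (ι.appLE W'.1 W.1 hle) := by
    rw [← ι.appIso_hom']; infer_instance
  have hbij : Function.Bijective (ι.appLE W'.1 W.1 hle).hom := ConcreteCategory.bijective_of_isIso (ι.appLE W'.1 W.1 hle)
  let e := RingEquiv.ofBijective _ hbij
  show Ideal.map e.toRingHom _ = _
  ext y
  obtain ⟨z, rfl⟩ := e.surjective y
  rw [Ideal.mem_map_iff_of_surjective e.toRingHom e.surjective]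
  have key : (i.app W.1) (e z) = 0 ↔ (i ≫ ι).app W'.1 z = 0 := by
    have e1 : ι.appLE W'.1 W.1 hle ≫ i.app W.1 = (i ≫ ι).app W'.1 ≫
        X.presheaf.map (eqToHom (by rw [Scheme.Hom.comp_preimage, Scheme.Hom.preimage_image_eq])).op := by
      rw [Scheme.Hom.app_eq_appLE, Scheme.Hom.app_eq_appLE, Scheme.Hom.appLE_comp_appLE, Scheme.Hom.appLE_map]
    have h2 := congr($e1 z)
    rw [CommRingCat.comp_apply, CommRingCat.comp_apply] at h2
    show i.app W.1 (ι.appLE W'.1 W.1 hle z) = 0 ↔ _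
    rw [h2, map_eq_zero_iff _ (ConcreteCategory.bijective_of_isIso (X.presheaf.map _)).1]
  constructor
  · rintro ⟨z', hz', he⟩
    obtain rfl := e.injective he
    exact RingHom.mem_ker.2 (key.2 (RingHom.mem_ker.1 hz'))
  · intro h
    exact ⟨z, RingHom.mem_ker.2 (key.1 (RingHom.mem_ker.1 h)), rfl⟩

theorem exists_unique_extension [IsLocallyNoetherian Y] (hreg : ∀ y : Y, IsRegularLocalRing (Y.presheaf.stalk y))
    (hY : topologicalKrullDim ↥Y ≤ 1) (U : Y.Opens) (hU : (U : Set Y).Nonempty) {Pn : Scheme.{u}} (π : Pn ⟶ Y)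
    [IsLocallyNoetherian Pn] (X : Scheme.{u}) (i : X ⟶ ↑(π ⁻¹ᵁ U)) [IsClosedImmersion i]
    [Flat (i ≫ (π ⁻¹ᵁ U).ι ≫ π)] :
    ∃ (X' : Scheme.{u}) (i' : X' ⟶ Pn) (j : X ⟶ X'),
      IsClosedImmersion i' ∧ Flat (i' ≫ π) ∧ IsPullback j i i' (π ⁻¹ᵁ U).ι ∧
      ∀ (X'' : Scheme.{u}) (i'' : X'' ⟶ Pn) (j'' : X ⟶ X''),
        IsClosedImmersion i'' → Flat (i'' ≫ π) → IsPullback j'' i i'' (π ⁻¹ᵁ U).ι →
        ∃ e : X' ≅ X'', e.hom ≫ i'' = i' := by
  let k := i ≫ (π ⁻¹ᵁ U).ι
  haveI : QuasiCompact (π ⁻¹ᵁ U).ι := inferInstance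
  haveI : Flat (k ≫ π) := by simpa [k] using ‹Flat (i ≫ (π ⁻¹ᵁ U).ι ≫ π)›
  have hp : IsPullback i k.toImage (π ⁻¹ᵁ U).ι k.imageι :=
    SmDef.isPullback_of_ker_eq i k.toImage (π ⁻¹ᵁ U).ι k.imageι (Scheme.Hom.toImage_imageι k).symm (by
      rw [Scheme.IdealSheafData.ker_subschemeι]; exact (comap_ker_comp i _).symm)
  refine ⟨k.image, k.imageι, k.toImage, inferInstance, flat_imageι hreg hY k π, hp.flip,
    fun X'' i'' j'' hi'' hfl hpb => ?_⟩
  haveI := hi''
  haveI := hfl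
  haveI : IsOpenImmersion j'' := MorphismProperty.of_isPullback (P := @IsOpenImmersion) hpb.flip inferInstance
  have hk : i''.ker = k.ker := by
    have e0 : k = j'' ≫ i'' := hpb.w.symm
    refine le_antisymm ?_ ?_
    · rw [e0]; exact Scheme.Hom.le_ker_comp j'' i''
    · intro W a ha
      rw [Scheme.Hom.ker_apply, RingHom.mem_ker] at ha ⊢
      refine eq_zero_of_res_preimage (i'' ≫ π) U hU (i'' ⁻¹ᵁ W.1) (i''.app W.1 a) ?_
      have hrange : (i'' ≫ π) ⁻¹ᵁ U = j''.opensRange := by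
        ext z
        constructor
        · intro hz
          obtain ⟨c, hc1, -⟩ := Scheme.exists_preimage_of_isPullback hpb z ⟨i'' z, hz⟩ rfl
          exact ⟨c, hc1⟩
        · rintro ⟨c, rfl⟩
          show (j'' ≫ i'' ≫ π) c ∈ U
          rw [← Category.assoc, hpb.w, Category.assoc]
          exact (i c).2
      let Z := i'' ⁻¹ᵁ W.1 ⊓ (i'' ≫ π) ⁻¹ᵁ U
      have hZ : Z ≤ j''.opensRange := by rw [← hrange]; exact inf_le_right
      have hinj : Function.Injective (j''.app Z).hom := by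
        haveI : IsIso (j''.app Z) := Scheme.Hom.isIso_app j'' Z hZ
        exact (ConcreteCategory.bijective_of_isIso (j''.app Z)).1
      refine hinj (Eq.trans ?_ (map_zero _).symm)
      have h1 := congrArg (X.presheaf.map (homOfLE (j''.preimage_mono (inf_le_left : Z ≤ i'' ⁻¹ᵁ W.1))).op)
        (show (j''.app (i'' ⁻¹ᵁ W.1)) (i''.app W.1 a) = 0 by
          have h3 : ∀ φ : X ⟶ Pn, φ = k → φ.app W.1 a = 0 := by rintro φ rfl; exact ha
          exact h3 _ e0.symm)
      rw [map_zero] at h1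
      refine Eq.trans ?_ h1
      exact congr($(j''.naturality (homOfLE inf_le_left).op) (i''.app W.1 a))
  have hle1 : k.imageι.ker ≤ i''.ker := by rw [Scheme.IdealSheafData.ker_subschemeι, hk]
  have hle2 : i''.ker ≤ k.imageι.ker := by rw [Scheme.IdealSheafData.ker_subschemeι, hk]
  let a : k.image ⟶ X'' := IsClosedImmersion.lift i'' k.imageι hle2
  let b : X'' ⟶ k.image := IsClosedImmersion.lift k.imageι i'' hle1
  have ha : a ≫ i'' = k.imageι := IsClosedImmersion.lift_fac _ _ _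
  have hb : b ≫ k.imageι = i'' := IsClosedImmersion.lift_fac _ _ _
  exact ⟨{ hom := a
           inv := b
           hom_inv_id := by rw [← cancel_mono k.imageι, Category.assoc, hb, ha, Category.id_comp]
           inv_hom_id := by rw [← cancel_mono i'', Category.assoc, ha, hb, Category.id_comp] }, ha⟩

end Groth.Agent.FlatExtCurve
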